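import Groth.Agent.SHDescentLib.Unram
import Groth.Agent.WeakUnram.Main
import Groth.Agent.WeakUnram.Abhyankar

/-!
# Solutions descend from strict henselizations
-/

set_option autoImplicit false
set_option backward.isDefEq.respectTransparency false
set_option linter.style.haveILetI false
set_option linter.unusedSectionVars false
set_option maxHeartbeats 2000000
set_option synthInstance.maxHeartbeats 100000

universe u

open IsLocalRing Polynomial

noncomputable section

namespace Groth.Agent.SHDescentLib

/-- The base rings can be shrunk along unramified extensions. -/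
theorem descend_square {V₀ V₂ W W₂ : Type u} [CommRing V₀] [IsLocalRing V₀] [CommRing V₂] [IsLocalRing V₂]
    [CommRing W] [IsLocalRing W] [CommRing W₂] [IsLocalRing W₂]
    (a : V₀ →+* W) (b : W →+* W₂) (c : V₀ →+* V₂) (d : V₂ →+* W₂)
    [IsLocalHom a] [IsLocalHom b] [IsLocalHom c] [IsLocalHom d]
    (hcomm : b.comp a = d.comp c) (hdiv : ∀ x z : W, b z ∣ b x → z ∣ x)
    (π : V₀) (hπ : maximalIdeal V₀ = Ideal.span {π})
    (hc : (maximalIdeal V₀).map c = maximalIdeal V₂)
    (hcs : @Algebra.IsSeparable (ResidueField V₀) (ResidueField V₂) _ _ (ResidueField.map c).toAlgebra)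
    (hd : (maximalIdeal V₂).map d = maximalIdeal W₂)
    (hdg : @Algebra.IsGeometricallyReduced (ResidueField V₂) (ResidueField W₂) _ _ (ResidueField.map d).toAlgebra) :
    (maximalIdeal V₀).map a = maximalIdeal W ∧
      @Algebra.IsGeometricallyReduced (ResidueField V₀) (ResidueField W) _ _ (ResidueField.map a).toAlgebra := by
  refine ⟨le_antisymm (Ideal.map_le_iff_le_comap.2 fun x hx => map_nonunit a x hx) fun x hx => ?_, ?_⟩
  · have h1 : b x ∈ (maximalIdeal V₀).map (d.comp c) := by
      rw [← Ideal.map_map, hc, hd]; exact map_nonunit b x hx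
    rw [← hcomm, ← Ideal.map_map, hπ, Ideal.map_span, Set.image_singleton, Ideal.map_span, Set.image_singleton,
      Ideal.mem_span_singleton] at h1
    rw [hπ, Ideal.map_span, Set.image_singleton, Ideal.mem_span_singleton]
    exact hdiv x (a π) h1
  · letI := (ResidueField.map a).toAlgebra
    letI := (ResidueField.map c).toAlgebra
    letI := (ResidueField.map d).toAlgebra
    letI : Algebra (ResidueField V₀) (ResidueField W₂) :=
      ((ResidueField.map d).comp (ResidueField.map c)).toAlgebra
    haveI : IsScalarTower (ResidueField V₀) (ResidueField V₂) (ResidueField W₂) :=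
      IsScalarTower.of_algebraMap_eq fun _ => rfl
    haveI := hcs
    haveI := hdg
    haveI := isGeometricallyReduced_of_separable (ResidueField V₀) (ResidueField V₂)
    haveI := isGeometricallyReduced_trans (ResidueField V₀) (ResidueField V₂) (ResidueField W₂)
    let i : ResidueField W →ₐ[ResidueField V₀] ResidueField W₂ := { ResidueField.map b with
      commutes' := fun x => by
        obtain ⟨x, rfl⟩ := residue_surjective x
        show residue W₂ (b (a x)) = residue W₂ (d (c x))
        exact congrArg (residue W₂) (RingHom.congr_fun hcomm x) }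
    exact Algebra.IsGeometricallyReduced.of_injective i i.toRingHom.injective

theorem exists_valuation_extension {F Ω : Type u} [Field F] [Field Ω] (g : F →+* Ω) (W : ValuationSubring F) :
    ∃ V : ValuationSubring Ω, V.comap g = W := by
  let S : Subring Ω := W.toSubring.map g
  let e : W ≃+* S := W.toSubring.equivMapOfInjective g g.injective
  let I : Ideal S := (maximalIdeal W).comap e.symm.toRingHom
  have hI : I ≠ ⊤ := (Ideal.comap_isMaximal_of_surjective _ e.symm.surjective).ne_top
  obtain ⟨V, hV, hIV⟩ := Ideal.image_subset_nonunits_valuationSubring I hI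
  refine ⟨V, SetLike.ext fun x => ⟨fun hx => ?_, fun hx => hV ⟨x, hx, rfl⟩⟩⟩
  by_contra hxW
  have hxi : x⁻¹ ∈ W := (W.mem_or_inv_mem x).resolve_left hxW
  have hx0 : x ≠ 0 := fun h => hxW (h ▸ zero_mem _)
  have hm : (⟨x⁻¹, hxi⟩ : W) ∈ maximalIdeal W := by
    rw [mem_maximalIdeal, mem_nonunits_iff]
    intro hu
    obtain ⟨w, hw⟩ := hu.exists_right_inv
    have h1 : x⁻¹ * w.1 = 1 := congrArg Subtype.val hw
    refine hxW ?_
    rw [show x = w.1 from ((eq_inv_of_mul_eq_one_right h1).trans (inv_inv x)).symm]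
    exact w.2
  have h2 : g x⁻¹ ∈ V.nonunits := hIV ⟨e ⟨x⁻¹, hxi⟩, (by
    show e.symm (e ⟨x⁻¹, hxi⟩) ∈ maximalIdeal W
    rwa [e.symm_apply_apply]), rfl⟩
  rw [ValuationSubring.mem_nonunits_iff, map_inv₀, map_inv₀, inv_lt_one₀] at h2
  · exact not_lt.2 ((V.valuation_le_one_iff _).2 hx) h2
  · exact zero_lt_iff.2 ((_root_.map_ne_zero _).2 ((map_ne_zero_iff _ g.injective).2 hx0))

theorem dominates_comap {R F G : Type u} [CommRing R] [IsLocalRing R] [Field F] [Field G] (h : R →+* F) (j : F →+* G)
    (V : ValuationSubring G) (hV : EtRam.Dominates R (j.comp h) V) : EtRam.Dominates R h (V.comap j) := by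
  refine ⟨fun r => hV.1 r, fun r hr => ?_⟩
  refine ((V.comap j).valuation_lt_one_iff ⟨_, hV.1 r⟩).1 ?_
  rw [mem_maximalIdeal, mem_nonunits_iff]
  exact fun hu => (mem_maximalIdeal _).1 ((V.valuation_lt_one_iff ⟨_, hV.1 r⟩).2 (hV.2 r hr))
    (hu.map (EtRam.inclOfComap V j))

theorem dominates_of_mem {R G : Type u} [CommRing R] [IsLocalRing R] [Field G] (V : ValuationSubring G) (h : R →+* V)
    [IsLocalHom h] : EtRam.Dominates R (V.subtype.comp h) V :=
  ⟨fun r => (h r).2, fun r hr => (V.valuation_lt_one_iff (h r)).1 (map_nonunit h r hr)⟩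

variable {A B A' B' K L K' L' : Type u} [CommRing A] [IsDomain A] [IsDiscreteValuationRing A]
  [CommRing B] [IsDomain B] [IsDiscreteValuationRing B] [CommRing A'] [IsDomain A'] [IsDiscreteValuationRing A']
  [CommRing B'] [IsDomain B'] [IsDiscreteValuationRing B'] [Algebra A B] [IsLocalHom (algebraMap A B)]
  [Algebra A A'] [IsLocalHom (algebraMap A A')] [Hensel.IsStrictHenselization A A']
  [Algebra B B'] [IsLocalHom (algebraMap B B')] [Hensel.IsStrictHenselization B B']
  [Algebra A' B'] [IsLocalHom (algebraMap A' B')] [Algebra A B'] [IsScalarTower A B B'] [IsScalarTower A A' B']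
  [Field K] [Field L] [Field K'] [Field L']
  [Algebra A K] [IsFractionRing A K] [Algebra B L] [IsFractionRing B L]
  [Algebra A' K'] [IsFractionRing A' K'] [Algebra B' L'] [IsFractionRing B' L']
  [Algebra K L] [Algebra A L] [IsScalarTower A K L] [IsScalarTower A B L]
  [Algebra K' L'] [Algebra A' L'] [IsScalarTower A' K' L'] [IsScalarTower A' B' L']
  [Algebra K K'] [Algebra A K'] [IsScalarTower A K K'] [IsScalarTower A A' K']
  [Algebra L L'] [Algebra B L'] [IsScalarTower B L L'] [IsScalarTower B B' L']

set_option maxHeartbeats 4000000 in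
include A A' in
theorem descend [Algebra.IsSeparable K K'] (hBinj : Function.Injective (algebraMap B B'))
    (K₁ : Type u) [Field K₁] [Algebra K' K₁] [FiniteDimensional K' K₁]
    (hsol : EtRam.IsSolution B' K' L' K₁) :
    ∃ (N₀ : Type u) (_ : Field N₀) (_ : Algebra K N₀), FiniteDimensional K N₀ ∧ EtRam.IsSolution B K L N₀ ∧
      (Algebra.IsSeparable K' K₁ → Algebra.IsSeparable K N₀) := by
  classical
  letI : Algebra K K₁ := ((algebraMap K' K₁).comp (algebraMap K K')).toAlgebra
  haveI : IsScalarTower K K' K₁ := IsScalarTower.of_algebraMap_eq fun _ => rfl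
  haveI : Algebra.IsAlgebraic K K₁ := Algebra.IsAlgebraic.trans K K' K₁
  let bas := Module.finBasis K' K₁
  let Ω₀ := AlgebraicClosure K
  let R : Set Ω₀ := ⋃ i, (minpoly K (bas i)).rootSet Ω₀
  have hR : R.Finite := Set.finite_iUnion fun i => rootSet_finite _ _
  let N₀ := IntermediateField.adjoin K R
  haveI : FiniteDimensional K N₀ := by
    haveI := hR.to_subtype
    exact IntermediateField.finiteDimensional_adjoin fun x _ => Algebra.IsIntegral.isIntegral x
  have hsplit₀ : ∀ i, ((minpoly K (bas i)).map (algebraMap K N₀)).Splits := fun i =>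
    IntermediateField.splits_of_splits (IsAlgClosed.splits _) fun x hx =>
      IntermediateField.subset_adjoin K R (Set.mem_iUnion.2 ⟨i, hx⟩)
  refine ⟨N₀, inferInstance, inferInstance, inferInstance, ?_, fun hsep => ?_⟩
  swap
  · haveI := hsep
    haveI : Algebra.IsSeparable K K₁ := Algebra.IsSeparable.trans K K' K₁
    refine (IntermediateField.isSeparable_adjoin_iff_isSeparable K Ω₀).2 fun x hx => ?_
    obtain ⟨i, hi⟩ := Set.mem_iUnion.1 hx
    exact (Algebra.IsSeparable.isSeparable K (bas i)).of_dvd (minpoly.dvd K x (mem_rootSet.1 hi).2)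
  intro M _ _ _ _ _ _ hgenM W hW
  let Ω := AlgebraicClosure M
  obtain ⟨V, hVW⟩ := exists_valuation_extension (algebraMap M Ω) W
  subst hVW
  haveI := henselian_valuationSubring V
  haveI := isAlgClosed_residueField V
  -- the map from `B'`
  let fB : B →+* V := RingHom.codRestrict ((algebraMap M Ω).comp ((algebraMap L M).comp (algebraMap B L))) V.toSubring
    fun b => hW.1 b
  haveI : IsLocalHom fB := ⟨fun b hb => by
    by_contra hnb
    have h1 : (⟨_, hW.1 b⟩ : V.comap (algebraMap M Ω)) ∈ maximalIdeal _ :=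
      ((V.comap (algebraMap M Ω)).valuation_lt_one_iff _).2 (hW.2 b hnb)
    exact (mem_maximalIdeal _).1 (map_nonunit (EtRam.inclOfComap V (algebraMap M Ω)) _ h1) hb⟩
  letI : Algebra (ResidueField B) (ResidueField V) := (ResidueField.map fB).toAlgebra
  haveI : FaithfulSMul (ResidueField B) (ResidueField V) :=
    (faithfulSMul_iff_algebraMap_injective _ _).2 (ResidueField.map fB).injective
  haveI : Module.IsTorsionFree (ResidueField B) (ResidueField V) :=
    Module.IsTorsionFree.of_smul_eq_zero fun r m h => by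
      rw [Algebra.smul_def, mul_eq_zero] at h
      exact h.imp_left fun h0 => (map_eq_zero_iff _ (ResidueField.map fB).injective).1 h0
  haveI : Algebra.IsSeparable (ResidueField B) (ResidueField B') := SHInter.isSeparable_residue_sh
  let τ : ResidueField B' →ₐ[ResidueField B] ResidueField V := IsAlgClosed.lift
  obtain ⟨g, ⟨hg, hgr⟩, -⟩ := (inferInstance : Hensel.IsStrictHenselization B B').universal V fB τ.toRingHom
    (RingHom.ext fun x => τ.commutes x)
  haveI hgloc : IsLocalHom g := ⟨fun x hx => by
    by_contra hnx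
    have h1 : residue V (g x) = 0 := by rw [hgr, (residue_eq_zero_iff x).2 hnx, map_zero]
    exact (mem_maximalIdeal _).1 ((residue_eq_zero_iff _).1 h1) hx⟩
  have hginj : Function.Injective (V.subtype.comp g) := by
    refine (injective_iff_map_eq_zero _).2 fun x hx => ?_
    by_contra hx0
    obtain ⟨π, hπ⟩ := IsDiscreteValuationRing.exists_irreducible B
    have hπ' : maximalIdeal B' = Ideal.span {algebraMap B B' π} := by
      rw [← SHInter.map_maximalIdeal_sh (A := B), hπ.maximalIdeal_eq, Ideal.map_span, Set.image_singleton]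
    obtain ⟨k, v, rfl⟩ := IsDiscreteValuationRing.eq_unit_mul_pow_irreducible hx0
      ((IsDiscreteValuationRing.irreducible_iff_uniformizer _).2 hπ')
    have h1 : (g (algebraMap B B' π) : Ω) = algebraMap M Ω (algebraMap L M (algebraMap B L π)) :=
      congrArg Subtype.val (RingHom.congr_fun hg π)
    have h2 : (g (algebraMap B B' π) : Ω) ≠ 0 := by
      rw [h1, map_ne_zero_iff _ (algebraMap M Ω).injective, map_ne_zero_iff _ (algebraMap L M).injective,
        map_ne_zero_iff _ (IsFractionRing.injective B L)]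
      exact hπ.ne_zero
    rw [map_mul, map_pow] at hx
    exact mul_ne_zero ((v.isUnit.map (V.subtype.comp g)).ne_zero) (pow_ne_zero k h2) hx
  let gL : L' →+* Ω := IsFractionRing.lift hginj
  have hgB : ∀ x : B', gL (algebraMap B' L' x) = (g x : Ω) := fun x => IsFractionRing.lift_algebraMap hginj x
  letI : Algebra L' Ω := gL.toAlgebra
  letI : Algebra K' Ω := (gL.comp (algebraMap K' L')).toAlgebra
  haveI : IsScalarTower K' L' Ω := IsScalarTower.of_algebraMap_eq fun _ => rfl
  have hLΩ : gL.comp (algebraMap L L') = (algebraMap M Ω).comp (algebraMap L M) :=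
    IsLocalization.ringHom_ext (nonZeroDivisors B) (RingHom.ext fun b => by
      simp only [RingHom.comp_apply]
      rw [← IsScalarTower.algebraMap_apply B L L', IsScalarTower.algebraMap_apply B B' L', hgB]
      exact congrArg Subtype.val (RingHom.congr_fun hg b))
  have hKL : (algebraMap K' L').comp (algebraMap K K') = (algebraMap L L').comp (algebraMap K L) :=
    IsLocalization.ringHom_ext (nonZeroDivisors A) (RingHom.ext fun a => by
      simp only [RingHom.comp_apply]
      rw [← IsScalarTower.algebraMap_apply A K K', IsScalarTower.algebraMap_apply A A' K',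
        ← IsScalarTower.algebraMap_apply A' K' L', IsScalarTower.algebraMap_apply A' B' L',
        ← IsScalarTower.algebraMap_apply A A' B', ← IsScalarTower.algebraMap_apply A K L,
        IsScalarTower.algebraMap_apply A B L, ← IsScalarTower.algebraMap_apply B L L',
        IsScalarTower.algebraMap_apply B B' L', ← IsScalarTower.algebraMap_apply A B B'])
  haveI : IsScalarTower K K' Ω := IsScalarTower.of_algebraMap_eq fun x => by
    show algebraMap K Ω x = gL (algebraMap K' L' (algebraMap K K' x))
    rw [show algebraMap K' L' (algebraMap K K' x) = algebraMap L L' (algebraMap K L x) from RingHom.congr_fun hKL x,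
      show gL (algebraMap L L' (algebraMap K L x)) = algebraMap M Ω (algebraMap L M (algebraMap K L x)) from
        RingHom.congr_fun hLΩ _, ← IsScalarTower.algebraMap_apply K L M, ← IsScalarTower.algebraMap_apply K M Ω]
  -- the compositum with `K'`
  let ι : N₀ →ₐ[K] Ω := (IsScalarTower.toAlgHom K M Ω).comp (IsScalarTower.toAlgHom K N₀ M)
  let bas₀ := Module.finBasis K N₀
  let F := IntermediateField.adjoin K' (Set.range fun i => ι (bas₀ i))
  haveI : FiniteDimensional K' F := IntermediateField.finiteDimensional_adjoin fun x hx => by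
    obtain ⟨i, rfl⟩ := hx
    exact ((Algebra.IsIntegral.isIntegral (R := K) (bas₀ i)).map ι).tower_top
  have hιF : ∀ y : N₀, ι y ∈ F := fun y => by
    rw [← bas₀.sum_repr y, map_sum]
    refine sum_mem fun i _ => ?_
    rw [map_smul, Algebra.smul_def, IsScalarTower.algebraMap_apply K K' Ω]
    exact mul_mem (F.algebraMap_mem _) (IntermediateField.subset_adjoin K' _ ⟨i, rfl⟩)
  let ιF : N₀ →+* F := ι.toRingHom.codRestrict F hιF
  obtain ⟨j⟩ : Nonempty (K₁ →ₐ[K'] F) := by
    refine IntermediateField.nonempty_algHom_of_adjoin_splits (S := Set.range bas) (fun s hs => ?_) ?_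
    · obtain ⟨i, rfl⟩ := hs
      refine ⟨Algebra.IsIntegral.isIntegral _, ?_⟩
      refine Polynomial.Splits.of_dvd ?_
        ((Polynomial.map_ne_zero_iff (algebraMap K' F).injective).2
          ((Polynomial.map_ne_zero_iff (algebraMap K K').injective).2
            (minpoly.ne_zero (Algebra.IsIntegral.isIntegral (R := K) (bas i)))))
        (Polynomial.map_dvd _ (minpoly.dvd_map_of_isScalarTower K K' (bas i)))
      rw [Polynomial.map_map]
      have h1 : (algebraMap K' F).comp (algebraMap K K') = ιF.comp (algebraMap K N₀) := RingHom.ext fun x => Subtype.ext (by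
        show algebraMap K' Ω (algebraMap K K' x) = ι (algebraMap K N₀ x)
        rw [← IsScalarTower.algebraMap_apply K K' Ω, ι.commutes])
      rw [h1, ← Polynomial.map_map]
      exact (hsplit₀ i).map ιF
    · refine eq_top_iff.2 fun x _ => ?_
      rw [← bas.sum_repr x]
      refine sum_mem fun i _ => ?_
      rw [Algebra.smul_def]
      exact mul_mem (IntermediateField.algebraMap_mem _ _) (IntermediateField.subset_adjoin K' _ ⟨i, rfl⟩)
  let jΩ : K₁ →ₐ[K'] Ω := F.val.comp j
  let M₁ := IntermediateField.adjoin L' (Set.range jΩ)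
  let M₂ := IntermediateField.adjoin L' (F : Set Ω)
  have halg₁ : ∀ x ∈ Set.range jΩ, IsAlgebraic L' x := by
    rintro _ ⟨y, rfl⟩
    exact ((Algebra.IsIntegral.isIntegral (R := K') y).map jΩ).tower_top.isAlgebraic
  have halg₂ : ∀ x ∈ (F : Set Ω), IsAlgebraic L' x := fun x hx =>
    ((Algebra.IsIntegral.isIntegral (R := K') (⟨x, hx⟩ : F)).map F.val).tower_top.isAlgebraic
  letI : Algebra K₁ M₁ := (jΩ.toRingHom.codRestrict M₁ fun y => IntermediateField.subset_adjoin L' _ ⟨y, rfl⟩).toAlgebra
  haveI : IsScalarTower K' K₁ M₁ := IsScalarTower.of_algebraMap_eq fun x => Subtype.ext (by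
    show algebraMap K' Ω x = jΩ (algebraMap K' K₁ x)
    rw [jΩ.commutes])
  have hgen₁ : Algebra.adjoin L' (Set.range (algebraMap K₁ M₁)) = ⊤ := by
    refine Subalgebra.map_injective (f := M₁.val) Subtype.val_injective ?_
    rw [AlgHom.map_adjoin, Algebra.map_top, ← Set.range_comp]
    exact (IntermediateField.adjoin_toSubalgebra_of_isAlgebraic halg₁).symm.trans M₁.range_val.symm
  have hgΩ : (algebraMap L' Ω).comp (algebraMap B' L') = V.subtype.comp g := RingHom.ext hgB
  have hdomV : EtRam.Dominates B' ((algebraMap L' Ω).comp (algebraMap B' L')) V := hgΩ ▸ dominates_of_mem V g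
  let W₁ := V.comap M₁.val.toRingHom
  have hW₁ : EtRam.Dominates B' ((algebraMap L' M₁).comp (algebraMap B' L')) W₁ :=
    dominates_comap _ M₁.val.toRingHom V hdomV
  have hsol₁ := hsol M₁ hgen₁ W₁ hW₁
  -- discreteness
  let f₁ := algebraMap K₁ M₁
  let V₁ := W₁.comap f₁
  letI : Algebra A' K₁ := ((algebraMap K' K₁).comp (algebraMap A' K')).toAlgebra
  haveI : IsScalarTower A' K' K₁ := IsScalarTower.of_algebraMap_eq fun _ => rfl
  have hdomA : EtRam.Dominates A' ((algebraMap K' Ω).comp (algebraMap A' K')) V := by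
    have h : (algebraMap K' Ω).comp (algebraMap A' K') = V.subtype.comp (g.comp (algebraMap A' B')) :=
      RingHom.ext fun x => by
        show gL (algebraMap K' L' (algebraMap A' K' x)) = _
        rw [← IsScalarTower.algebraMap_apply A' K' L', IsScalarTower.algebraMap_apply A' B' L', hgB]
        rfl
    rw [h]
    haveI : IsLocalHom (g.comp (algebraMap A' B')) := RingHom.isLocalHom_comp _ _
    exact dominates_of_mem V _
  have hV₁ : EtRam.Dominates A' (algebraMap A' K₁) V₁ := by
    refine dominates_comap _ f₁ W₁ (dominates_comap _ M₁.val.toRingHom V ?_)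
    convert hdomA using 1
    exact RingHom.ext fun x => jΩ.commutes _
  haveI := (WeakUnram.dvr_of_dominates (A := A') (K := K') V₁ hV₁).1
  letI : Algebra B' M₁ := ((algebraMap L' M₁).comp (algebraMap B' L')).toAlgebra
  haveI : IsScalarTower B' L' M₁ := IsScalarTower.of_algebraMap_eq fun _ => rfl
  haveI : FiniteDimensional L' M₁ := WeakUnram.finite_of_generated K' L' K₁ M₁ hgen₁
  haveI := (WeakUnram.dvr_of_dominates (A := B') (K := L') W₁ hW₁).1
  -- enlarging
  letI : Algebra V₁ W₁ := (EtRam.inclOfComap W₁ f₁).toAlgebra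
  haveI : IsLocalHom (algebraMap V₁ W₁) := EtRam.isLocalHom_inclOfComap W₁ f₁
  haveI hgeo₁ : Algebra.IsGeometricallyReduced (ResidueField V₁) (ResidueField W₁) := by
    have halg : (ResidueField.map (EtRam.inclOfComap W₁ f₁)).toAlgebra =
        (inferInstance : Algebra (ResidueField V₁) (ResidueField W₁)) :=
      Algebra.algebra_ext _ _ fun x => by
        obtain ⟨x, rfl⟩ := residue_surjective x
        rfl
    exact (congrArg (fun al : Algebra (ResidueField V₁) (ResidueField W₁) =>
      @Algebra.IsGeometricallyReduced (ResidueField V₁) (ResidueField W₁) _ _ al) halg).mp hsol₁.2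
  have hw₁ : EtRam.IsWeaklyUnramified V₁ W₁ := hsol₁.1
  letI : Algebra V₁ M₁ := (f₁.comp V₁.subtype).toAlgebra
  haveI : IsScalarTower V₁ K₁ M₁ := IsScalarTower.of_algebraMap_eq fun _ => rfl
  haveI : IsScalarTower V₁ W₁ M₁ := IsScalarTower.of_algebraMap_eq fun _ => rfl
  letI : Algebra K₁ F := j.toRingHom.toAlgebra
  haveI : IsScalarTower K' K₁ F := IsScalarTower.of_algebraMap_eq fun x => (j.commutes x).symm
  haveI : FiniteDimensional K₁ F := Module.Finite.of_restrictScalars_finite K' K₁ F
  have hle : M₁ ≤ M₂ := IntermediateField.adjoin.mono L' _ _ (by rintro _ ⟨y, rfl⟩; exact (j y).2)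
  letI : Algebra M₁ M₂ := (IntermediateField.inclusion hle).toRingHom.toAlgebra
  haveI : IsScalarTower L' M₁ M₂ := IsScalarTower.of_algebraMap_eq fun x => Subtype.ext rfl
  letI : Algebra F M₂ := (F.val.toRingHom.codRestrict M₂ fun y => IntermediateField.subset_adjoin L' _ y.2).toAlgebra
  letI : Algebra K₁ M₂ := ((algebraMap M₁ M₂).comp f₁).toAlgebra
  haveI : IsScalarTower K₁ M₁ M₂ := IsScalarTower.of_algebraMap_eq fun _ => rfl
  haveI : IsScalarTower K₁ F M₂ := IsScalarTower.of_algebraMap_eq fun _ => Subtype.ext rfl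
  have hgen₂ : Algebra.adjoin M₁ (Set.range (algebraMap F M₂)) = ⊤ := by
    have h1 : Algebra.adjoin L' (Set.range (algebraMap F M₂)) = ⊤ := by
      refine Subalgebra.map_injective (f := M₂.val) Subtype.val_injective ?_
      rw [AlgHom.map_adjoin, Algebra.map_top, ← Set.range_comp]
      refine Eq.trans ?_ ((IntermediateField.adjoin_toSubalgebra_of_isAlgebraic halg₂).symm.trans M₂.range_val.symm)
      exact congrArg _ Subtype.range_coe
    refine eq_top_iff.2 fun x _ => ?_
    exact (Algebra.adjoin_le (S := (Algebra.adjoin M₁ (Set.range (algebraMap F M₂))).restrictScalars L')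
      Algebra.subset_adjoin) (h1 ▸ Algebra.mem_top : x ∈ Algebra.adjoin L' (Set.range (algebraMap F M₂)))
  let W₂ := V.comap M₂.val.toRingHom
  have hW₂ : EtRam.Dominates W₁ ((algebraMap M₁ M₂).comp (algebraMap W₁ M₁)) W₂ :=
    dominates_comap _ M₂.val.toRingHom V
      (dominates_of_mem V (EtRam.inclOfComap V M₁.val.toRingHom))
  obtain ⟨hw₂, hg₂⟩ := WeakUnram.solution_at V₁ W₁ K₁ M₁ (fun x y h => Subtype.ext (f₁.injective (congrArg Subtype.val h)))
    hw₁ F M₂ hgen₂ W₂ hW₂
  -- descending
  let f₂ := algebraMap F M₂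
  let V₂ := W₂.comap f₂
  let σ : A' →+* F := (algebraMap K' F).comp (algebraMap A' K')
  have hdom₂ : EtRam.Dominates A' σ V₂ := dominates_comap _ f₂ W₂ (dominates_comap _ M₂.val.toRingHom V hdomA)
  let g₀ : A →+* N₀ := (algebraMap K N₀).comp (algebraMap A K)
  have hcompA : ιF.comp g₀ = σ.comp (algebraMap A A') := RingHom.ext fun a => Subtype.ext (by
    show ι (algebraMap K N₀ (algebraMap A K a)) = algebraMap K' Ω (algebraMap A' K' (algebraMap A A' a))
    rw [ι.commutes, ← IsScalarTower.algebraMap_apply A A' K', IsScalarTower.algebraMap_apply A K K',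
      ← IsScalarTower.algebraMap_apply K K' Ω])
  have hV₀ : EtRam.Dominates A g₀ (V₂.comap ιF) := by
    refine dominates_comap _ ιF V₂ ?_
    rw [hcompA]
    exact ⟨fun a => hdom₂.1 _, fun a ha => hdom₂.2 _ (map_nonunit (algebraMap A A') a ha)⟩
  haveI := @WeakUnram.dvr_of_dominates A K N₀ _ _ _ _ _ _ _ _ g₀.toAlgebra
    (@IsScalarTower.of_algebraMap_eq A K N₀ _ _ _ _ _ g₀.toAlgebra fun _ => rfl) _ (V₂.comap ιF) hV₀ |>.1
  have hgenF : ∀ x : F, ∃ s : Finset A', x ∈ Subfield.closure (Set.range ιF ∪ σ '' (s : Set A')) := by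
    rintro ⟨x, hx⟩
    induction hx using IntermediateField.adjoin_induction with
    | mem x hx =>
      obtain ⟨i, rfl⟩ := hx
      exact ⟨∅, Subfield.subset_closure (Or.inl ⟨bas₀ i, rfl⟩)⟩
    | algebraMap r =>
      obtain ⟨a, b, -, rfl⟩ := IsFractionRing.div_surjective A' r
      refine ⟨{a, b}, ?_⟩
      rw [show (⟨algebraMap K' Ω (algebraMap A' K' a / algebraMap A' K' b), _⟩ : F) = σ a / σ b from
        Subtype.ext (by
          show algebraMap K' Ω _ = algebraMap K' Ω (algebraMap A' K' a) / algebraMap K' Ω (algebraMap A' K' b)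
          rw [map_div₀])]
      exact div_mem (Subfield.subset_closure (Or.inr ⟨a, by simp, rfl⟩))
        (Subfield.subset_closure (Or.inr ⟨b, by simp, rfl⟩))
    | add x y hx hy h1 h2 =>
      obtain ⟨s, hs⟩ := h1
      obtain ⟨t, ht⟩ := h2
      refine ⟨s ∪ t, ?_⟩
      exact add_mem (Subfield.closure_mono (Set.union_subset_union_right _ (Set.image_mono (by simp))) hs)
        (Subfield.closure_mono (Set.union_subset_union_right _ (Set.image_mono (by simp))) ht)
    | inv x hx h1 =>
      obtain ⟨s, hs⟩ := h1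
      exact ⟨s, inv_mem hs⟩
    | mul x y hx hy h1 h2 =>
      obtain ⟨s, hs⟩ := h1
      obtain ⟨t, ht⟩ := h2
      refine ⟨s ∪ t, ?_⟩
      exact mul_mem (Subfield.closure_mono (Set.union_subset_union_right _ (Set.image_mono (by simp))) hs)
        (Subfield.closure_mono (Set.union_subset_union_right _ (Set.image_mono (by simp))) ht)
  obtain ⟨hc, hcs⟩ := unram_at (S := A') ιF σ V₂ hdom₂.1 g₀ hV₀ hcompA hgenF
  -- the field `M` inside `M₂`
  have hMM₂ : ∀ m : M, algebraMap M Ω m ∈ M₂ := by
    intro m
    have hm : m ∈ Algebra.adjoin L (Set.range (algebraMap N₀ M)) := hgenM ▸ Algebra.mem_top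
    induction hm using Algebra.adjoin_induction with
    | mem x hx =>
      obtain ⟨y, rfl⟩ := hx
      exact IntermediateField.subset_adjoin L' _ (hιF y)
    | algebraMap r =>
      rw [show algebraMap M Ω (algebraMap L M r) = algebraMap L' Ω (algebraMap L L' r) from
        (RingHom.congr_fun hLΩ r).symm]
      exact M₂.algebraMap_mem _
    | add x y _ _ hx hy => rw [map_add]; exact add_mem hx hy
    | mul x y _ _ hx hy => rw [map_mul]; exact mul_mem hx hy
  let i : M →+* M₂ := (algebraMap M Ω).codRestrict M₂ hMM₂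
  let f := algebraMap N₀ M
  let Wm := V.comap (algebraMap M Ω)
  let bm : Wm →+* W₂ := RingHom.codRestrict (i.comp Wm.subtype) W₂.toSubring fun x => x.2
  haveI : IsLocalHom bm := ⟨fun x hx => by
    obtain ⟨w, hw⟩ := hx.exists_right_inv
    by_contra hnx
    have h1 := map_nonunit (EtRam.inclOfComap V (algebraMap M Ω)) x ((mem_maximalIdeal x).2 hnx)
    exact (mem_maximalIdeal _).1 h1 (IsUnit.of_mul_eq_one ⟨(w : M₂).1, w.2⟩ (Subtype.ext
      (congrArg (fun z : W₂ => ((z : M₂) : Ω)) hw)))⟩
  let c : (Wm.comap f) →+* V₂ := RingHom.codRestrict (ιF.comp (Wm.comap f).subtype) V₂.toSubring fun x => x.2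
  haveI : IsLocalHom c := EtRam.isLocalHom_inclOfComap V₂ ιF
  obtain ⟨π, hπ⟩ := IsDiscreteValuationRing.exists_irreducible (V₂.comap ιF)
  have hmain := descend_square (EtRam.inclOfComap Wm f) bm c (EtRam.inclOfComap W₂ f₂)
    (RingHom.ext fun x => Subtype.ext (Subtype.ext rfl)) (fun x z hzx => by
      obtain ⟨q, hq⟩ := hzx
      have hq' : algebraMap M Ω x.1 = algebraMap M Ω z.1 * (q : M₂).1 :=
        congrArg (fun w : W₂ => ((w : M₂) : Ω)) hq
      rcases eq_or_ne (z : M) 0 with h0 | h0
      · refine ⟨1, Subtype.ext ((algebraMap M Ω).injective ?_)⟩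
        rw [hq', h0, map_zero, zero_mul]
        simp [h0]
      · refine ⟨⟨(x : M) / z, ?_⟩, Subtype.ext (mul_div_cancel₀ (x : M) h0).symm⟩
        show algebraMap M Ω ((x : M) / z) ∈ V
        rw [map_div₀, hq', mul_div_cancel_left₀ _ ((map_ne_zero_iff _ (algebraMap M Ω).injective).2 h0)]
        exact q.2)
    π hπ.maximalIdeal_eq hc hcs hw₂ hg₂
  exact hmain

end Groth.Agent.SHDescentLib
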