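import Groth.Agent.SHInter.Normal
import Groth.Agent.GeomRedFieldLib.Basic
import Groth.Prelude.Def_EtRam

/-!
# Strict henselizations of discrete valuation rings and algebraically closed valued fields
-/

set_option autoImplicit false
set_option linter.style.haveILetI false
set_option linter.unusedSectionVars false
set_option maxHeartbeats 1000000

universe u

open IsLocalRing Polynomial
open scoped TensorProduct

noncomputable section

namespace Groth.Agent.SHDescentLib

section Closed

variable {Ω : Type u} [Field Ω] [IsAlgClosed Ω] (V : ValuationSubring Ω)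

theorem exists_roots {f : V[X]} (hf : f.Monic) (hd : f.natDegree ≠ 0) :
    ∃ s : Multiset V, s ≠ 0 ∧ f = (s.map fun r => X - C r).prod := by
  classical
  let g := f.map V.subtype
  have hg : g.Monic := hf.map _
  have hsp : g.Splits := IsAlgClosed.splits g
  have hint : ∀ r ∈ g.roots, r ∈ V := by
    intro r hr
    have hr0 : aeval r f = 0 := by
      have := (mem_roots hg.ne_zero).1 hr
      rw [IsRoot, eval_map] at this
      exact this
    obtain ⟨w, hw⟩ := IsIntegrallyClosed.isIntegral_iff.1 (⟨f, hf, hr0⟩ : IsIntegral V r)
    rw [← hw]; exact w.2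
  let s : Multiset V := g.roots.pmap (fun r h => (⟨r, h⟩ : V)) hint
  have hs : s.map V.subtype = g.roots := by
    simp only [s, Multiset.map_pmap]
    exact (Multiset.pmap_eq_map _ _ _ _).trans (Multiset.map_id' _)
  refine ⟨s, fun h0 => hd ?_, ?_⟩
  · rw [h0, Multiset.map_zero] at hs
    have h1 := hsp.natDegree_eq_card_roots
    rw [← hs, Multiset.card_zero, hf.natDegree_map] at h1
    exact h1
  · refine Polynomial.map_injective V.subtype Subtype.val_injective ?_
    rw [Polynomial.map_multiset_prod, Multiset.map_map]
    refine (hsp.eq_prod_roots_of_monic hg).trans ?_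
    rw [← hs, Multiset.map_map]
    exact congrArg Multiset.prod (Multiset.map_congr rfl fun r _ => by simp)

theorem henselian_valuationSubring : HenselianLocalRing V where
  is_henselian f hf a₀ h₁ h₂ := by
    by_cases hd : f.natDegree = 0
    · rw [hf.natDegree_eq_zero.1 hd, derivative_one, eval_zero] at h₂
      exact absurd h₂ not_isUnit_zero
    obtain ⟨s, -, hfs⟩ := exists_roots V hf hd
    rw [hfs, eval_multiset_prod, Multiset.map_map] at h₁
    obtain ⟨q, hq, hqm⟩ := ((maximalIdeal.isMaximal V).isPrime.multiset_prod_mem_iff_exists_mem _).1 h₁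
    obtain ⟨r, hr, rfl⟩ := Multiset.mem_map.1 hq
    have hrm := hqm
    refine ⟨r, ?_, ?_⟩
    · rw [hfs, IsRoot, eval_multiset_prod, Multiset.map_map]
      exact Multiset.prod_eq_zero (Multiset.mem_map.2 ⟨r, hr, by simp⟩)
    · simp only [Function.comp_apply, eval_sub, eval_X, eval_C] at hrm
      simpa using neg_mem hrm

theorem isAlgClosed_residueField : IsAlgClosed (ResidueField V) := by
  refine IsAlgClosed.of_exists_root _ fun p hp hirr => ?_
  obtain ⟨f, hf, hdeg, hfm⟩ := Polynomial.lifts_and_degree_eq_and_monic
    (Polynomial.map_surjective (residue V) residue_surjective p) hp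
  have hd : f.natDegree ≠ 0 := by
    rw [natDegree_eq_of_degree_eq hdeg]
    exact hirr.natDegree_pos.ne'
  obtain ⟨s, hs0, hfs⟩ := exists_roots V hfm hd
  obtain ⟨r, hr⟩ := Multiset.exists_mem_of_ne_zero hs0
  refine ⟨residue V r, ?_⟩
  rw [← hf, eval_map, eval₂_at_apply]
  show residue V (f.eval r) = 0
  rw [show f.eval r = 0 by
    rw [hfs, eval_multiset_prod, Multiset.map_map]
    exact Multiset.prod_eq_zero (Multiset.mem_map.2 ⟨r, hr, by simp⟩), map_zero]

end Closed

/-- Separable algebraic extensions are geometrically reduced. -/
theorem isGeometricallyReduced_of_separable (k L : Type u) [Field k] [Field L] [Algebra k L]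
    [Algebra.IsSeparable k L] : Algebra.IsGeometricallyReduced k L := by
  rw [Algebra.isGeometricallyReduced_field_iff]
  refine IsReduced.tensorProduct_of_flat_of_forall_fg fun B hB => ?_
  obtain ⟨s, rfl⟩ := hB
  let E := IntermediateField.adjoin k (s : Set L)
  haveI : FiniteDimensional k E :=
    IntermediateField.finiteDimensional_adjoin fun x _ => Algebra.IsIntegral.isIntegral x
  haveI : Algebra.IsSeparable k E := Algebra.isSeparable_tower_bot_of_isSeparable k E L
  haveI : Algebra.FormallyUnramified k E := Algebra.FormallyUnramified.of_isSeparable k E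
  have hle : Algebra.adjoin k (s : Set L) ≤ E.toSubalgebra :=
    IntermediateField.algebra_adjoin_le_adjoin k _
  let Ω := AlgebraicClosure k
  haveI : IsReduced (Ω ⊗[k] E) := Algebra.FormallyUnramified.isReduced_of_field Ω (Ω ⊗[k] E)
  exact isReduced_of_injective (Algebra.TensorProduct.map (AlgHom.id k Ω) (Subalgebra.inclusion hle))
    (Module.Flat.lTensor_preserves_injective_linearMap _ (Subalgebra.inclusion_injective hle))

/-- Transitivity of geometric reducedness for fields. -/
theorem isGeometricallyReduced_trans (k k' A : Type u) [Field k] [Field k'] [Field A] [Algebra k k'] [Algebra k A]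
    [Algebra k' A] [IsScalarTower k k' A] [Algebra.IsGeometricallyReduced k k']
    [Algebra.IsGeometricallyReduced k' A] : Algebra.IsGeometricallyReduced k A := by
  rw [Algebra.isGeometricallyReduced_field_iff]
  let K := AlgebraicClosure k
  haveI : IsReduced (K ⊗[k] k') := Groth.Agent.GeomRedFieldLib.forall_of_isGeometricallyReduced K
  haveI : IsReduced (k' ⊗[k] K) :=
    isReduced_of_injective (Algebra.TensorProduct.comm k k' K) (AlgEquiv.injective _)
  haveI : IsReduced ((k' ⊗[k] K) ⊗[k'] A) :=
    Groth.Agent.GeomRedFieldLib.isReduced_tensor (k := k') (k' ⊗[k] K)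
      (fun L _ _ => Groth.Agent.GeomRedFieldLib.forall_of_isGeometricallyReduced L)
  haveI : IsReduced (A ⊗[k'] (k' ⊗[k] K)) :=
    isReduced_of_injective (Algebra.TensorProduct.comm k' A (k' ⊗[k] K)) (AlgEquiv.injective _)
  haveI : IsReduced (A ⊗[k] K) :=
    isReduced_of_injective (Algebra.TensorProduct.cancelBaseChange k k' A A K).symm
      (AlgEquiv.injective _)
  exact isReduced_of_injective (Algebra.TensorProduct.comm k K A) (AlgEquiv.injective _)

section StrictHens

variable {A S : Type u} [CommRing A] [IsDomain A] [IsDiscreteValuationRing A] [CommRing S] [IsLocalRing S]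
  [Algebra A S] [IsLocalHom (algebraMap A S)] [Hensel.IsStrictHenselization A S]

theorem injective_sh : Function.Injective (algebraMap A S) := by
  haveI : Module.Flat A S := SHInter.flat_sh
  haveI : Module.FaithfullyFlat A S := Module.FaithfullyFlat.of_flat_of_isLocalHom
  exact FaithfulSMul.algebraMap_injective A S

variable (A) in
include A in
theorem isDVR_sh : ∃ _ : IsDomain S, IsDiscreteValuationRing S := by
  haveI := (SHInter.isDomain_sh (A := A) (S := S)).1
  haveI : IsNoetherianRing S := SHInter.isNoetherianRing_sh (A := A)
  obtain ⟨π, hπ⟩ := IsDiscreteValuationRing.exists_irreducible A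
  have h := SHInter.map_maximalIdeal_sh (A := A) (S := S)
  rw [hπ.maximalIdeal_eq, Ideal.map_span, Set.image_singleton] at h
  have hne : ¬ IsField S := fun hF => by
    have h1 : maximalIdeal S = ⊥ := IsLocalRing.isField_iff_maximalIdeal_eq.1 hF
    rw [← h, Ideal.span_singleton_eq_bot, map_eq_zero_iff _ (injective_sh (A := A))] at h1
    exact hπ.ne_zero h1
  exact ⟨inferInstance, ((IsDiscreteValuationRing.TFAE S hne).out 0 4 rfl rfl).2 ⟨_, h.symm⟩⟩

/-- The fraction field of a strict henselization is separable over that of the base. -/
theorem isSeparable_frac (K K' : Type u) [Field K] [Field K'] [Algebra A K] [IsFractionRing A K] [Algebra S K']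
    [IsFractionRing S K'] [Algebra K K'] [Algebra A K'] [IsScalarTower A K K'] [IsScalarTower A S K'] :
    Algebra.IsSeparable K K' := by
  have hmem : ∀ x : S, algebraMap S K' x ∈ separableClosure K K' := by
    intro x
    obtain ⟨E, hxE, hEl, hloc, hE⟩ := SHInter.exists_stage A S {x}
    haveI := hEl
    haveI : IsDomain S := (SHInter.isDomain_sh (A := A) (S := S)).1
    haveI := SHInter.formallyEtale_of_essEt hE
    haveI := SHInter.essFiniteType_of_essEt hE
    let F := FractionRing E
    letI : Algebra K F := (IsFractionRing.lift (A := A) (g := algebraMap A F) (by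
        rw [IsScalarTower.algebraMap_eq A E F]
        exact (IsFractionRing.injective E F).comp fun a b h =>
          injective_sh (A := A) (S := S) (congrArg Subtype.val h))).toAlgebra
    haveI : IsScalarTower A K F := IsScalarTower.of_algebraMap_eq fun a =>
      (IsFractionRing.lift_algebraMap _ a).symm
    haveI : Algebra.FormallyUnramified E F := Algebra.FormallyUnramified.of_isLocalization (nonZeroDivisors E)
    haveI : Algebra.FormallyUnramified A F := Algebra.FormallyUnramified.comp A E F
    haveI : Algebra.FormallyUnramified K F := Algebra.FormallyUnramified.of_restrictScalars A K F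
    haveI : Algebra.EssFiniteType E F := Algebra.EssFiniteType.of_isLocalization F (nonZeroDivisors E)
    haveI : Algebra.EssFiniteType A F := Algebra.EssFiniteType.comp A E F
    haveI : Algebra.EssFiniteType K F := Algebra.EssFiniteType.of_comp A K F
    haveI : Algebra.IsSeparable K F := Algebra.FormallyUnramified.isSeparable K F
    have hinjE : Function.Injective ((algebraMap S K').comp E.val.toRingHom) :=
      (IsFractionRing.injective S K').comp Subtype.val_injective
    let φ : F →ₐ[K] K' := { IsFractionRing.lift (A := E) (g := (algebraMap S K').comp E.val.toRingHom) hinjE with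
      commutes' := fun r => RingHom.congr_fun (f := (IsFractionRing.lift (A := E) hinjE).comp (algebraMap K F))
        (g := algebraMap K K') (IsLocalization.ringHom_ext (nonZeroDivisors A) (RingHom.ext fun a => by
          simp only [RingHom.comp_apply]
          rw [← IsScalarTower.algebraMap_apply A K F, IsScalarTower.algebraMap_apply A E F,
            IsFractionRing.lift_algebraMap, ← IsScalarTower.algebraMap_apply A K K',
            IsScalarTower.algebraMap_apply A S K']
          rfl)) r }
    have h1 : φ (algebraMap E F ⟨x, hxE (Finset.mem_singleton_self x)⟩) = algebraMap S K' x :=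
      IsFractionRing.lift_algebraMap hinjE _
    rw [← h1, map_mem_separableClosure_iff]
    exact mem_separableClosure_iff.2 (Algebra.IsSeparable.isSeparable K _)
  refine (separableClosure.eq_top_iff K K').1 (eq_top_iff.2 fun y _ => ?_)
  obtain ⟨a, b, -, rfl⟩ := IsFractionRing.div_surjective S y
  exact div_mem (hmem a) (hmem b)

end StrictHens

end Groth.Agent.SHDescentLib
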