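import Groth.Agent.SHDescentLib.Basic

/-!
# Extending by a strict henselization is unramified
-/

set_option autoImplicit false
set_option backward.isDefEq.respectTransparency false
set_option linter.style.haveILetI false
set_option linter.unusedSectionVars false
set_option maxHeartbeats 1000000
set_option synthInstance.maxHeartbeats 100000

universe u

open IsLocalRing
open scoped TensorProduct

noncomputable section

namespace Groth.Agent.SHDescentLib

/-- Factorization in a local ring with principal maximal ideal. -/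
theorem exists_unit_pow {T : Type u} [CommRing T] [IsLocalRing T] [IsNoetherianRing T] {π : T}
    (hπ : maximalIdeal T = Ideal.span {π}) (t : T) : t = 0 ∨ ∃ (n : ℕ) (v : Tˣ), t = v * π ^ n := by
  refine (em (∃ n, t ∉ maximalIdeal T ^ n)).elim (fun h => Or.inr ?_) (fun h => Or.inl ?_)
  · classical
    obtain ⟨m, hm⟩ : ∃ m, Nat.find h = m + 1 := Nat.exists_eq_succ_of_ne_zero fun h0 => by
      have := Nat.find_spec h
      rw [h0, pow_zero, Ideal.one_eq_top] at this
      exact this Submodule.mem_top
    have h1 : t ∈ maximalIdeal T ^ m := not_not.1 (Nat.find_min h (by omega))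
    have h2 := Nat.find_spec h
    rw [hπ, Ideal.span_singleton_pow, Ideal.mem_span_singleton] at h1
    obtain ⟨c, hc⟩ := h1
    have hcu : IsUnit c := by
      by_contra hcu
      refine h2 ?_
      rw [hm, hc, pow_succ]
      exact Ideal.mul_mem_mul (Ideal.pow_mem_pow (hπ ▸ Ideal.mem_span_singleton_self π) m) ((mem_maximalIdeal c).2 hcu)
    exact ⟨m, hcu.unit, by rw [hc, mul_comm]; rfl⟩
  · push Not at h
    have : t ∈ ⨅ n, maximalIdeal T ^ n := Ideal.mem_iInf.2 h
    rwa [Ideal.iInf_pow_eq_bot_of_isLocalRing _ (maximalIdeal.isMaximal T).ne_top] at this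

variable {A S N F : Type u} [CommRing A] [IsDomain A] [IsDiscreteValuationRing A] [CommRing S] [IsLocalRing S]
  [Algebra A S] [IsLocalHom (algebraMap A S)] [Hensel.IsStrictHenselization A S]
  [Field N] [Field F]

set_option maxHeartbeats 2000000 in
/-- If `F` is generated by `N` and a strict henselization of `A`, a valuation ring of `F` is unramified over its
trace on `N`. -/
theorem unram_at (ι : N →+* F) (σ : S →+* F) (V : ValuationSubring F) (hσV : ∀ s, σ s ∈ V)
    [IsDiscreteValuationRing (V.comap ι)] (g : A →+* N) (hg : EtRam.Dominates A g (V.comap ι))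
    (hcomp : ι.comp g = σ.comp (algebraMap A S))
    (hgen : ∀ x : F, ∃ s : Finset S, x ∈ Subfield.closure (Set.range ι ∪ σ '' (s : Set S))) :
    (maximalIdeal (V.comap ι)).map (EtRam.inclOfComap V ι) = maximalIdeal V ∧
      @Algebra.IsSeparable (ResidueField (V.comap ι)) (ResidueField V) _ _
        (ResidueField.map (EtRam.inclOfComap V ι)).toAlgebra := by
  classical
  set V₀ := V.comap ι with hV₀
  obtain ⟨π₀, hπ₀⟩ := IsDiscreteValuationRing.exists_irreducible V₀
  letI : Algebra V₀ V := (EtRam.inclOfComap V ι).toAlgebra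
  haveI : IsLocalHom (algebraMap V₀ V) := EtRam.isLocalHom_inclOfComap V ι
  letI : Algebra (ResidueField V₀) (ResidueField V) := (ResidueField.map (EtRam.inclOfComap V ι)).toAlgebra
  letI : Algebra A V₀ := (RingHom.codRestrict g V₀.toSubring hg.1).toAlgebra
  letI : Algebra A V := ((algebraMap V₀ V).comp (algebraMap A V₀)).toAlgebra
  haveI : IsScalarTower A V₀ V := IsScalarTower.of_algebraMap_eq fun _ => rfl
  haveI : IsLocalHom (algebraMap A V₀) := ⟨fun a ha => by
    by_contra hna
    exact (mem_maximalIdeal _).1 ((V₀.valuation_lt_one_iff (algebraMap A V₀ a)).2 (hg.2 a hna)) ha⟩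
  -- each element comes from an unramified local algebra
  have key : ∀ x : V, (x ∈ maximalIdeal V → algebraMap V₀ V π₀ ∣ x) ∧
      IsSeparable (ResidueField V₀) (residue V x) := by
    intro x
    obtain ⟨s, hxs⟩ := hgen (x : F)
    obtain ⟨E, hsE, hEl, hloc, hE⟩ := SHInter.exists_stage A S s
    haveI := hEl
    haveI := SHInter.formallyEtale_of_essEt hE
    haveI := SHInter.essFiniteType_of_essEt hE
    let σE : E →ₐ[A] V := { RingHom.codRestrict (σ.comp E.val.toRingHom) V.toSubring (fun e => hσV _) with
      commutes' := fun a => Subtype.ext (RingHom.congr_fun hcomp a).symm }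
    let R := V₀ ⊗[A] E
    let φ : R →ₐ[A] V := Algebra.TensorProduct.lift (IsScalarTower.toAlgHom A V₀ V) σE fun _ _ => Commute.all _ _
    let Q : Ideal R := (maximalIdeal V).comap φ.toRingHom
    haveI : Q.IsPrime := Ideal.IsPrime.comap φ.toRingHom
    let T := Localization.AtPrime Q
    haveI : Algebra.FormallyUnramified V₀ R := inferInstance
    haveI : Algebra.FormallyUnramified R T := Algebra.FormallyUnramified.of_isLocalization Q.primeCompl
    haveI : Algebra.FormallyUnramified V₀ T := Algebra.FormallyUnramified.comp V₀ R T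
    haveI : Algebra.EssFiniteType V₀ R := inferInstance
    haveI : Algebra.EssFiniteType R T := Algebra.EssFiniteType.of_isLocalization T Q.primeCompl
    haveI : Algebra.EssFiniteType V₀ T := Algebra.EssFiniteType.comp V₀ R T
    haveI : IsNoetherianRing T := Algebra.EssFiniteType.isNoetherianRing V₀ T
    let ψ : T →+* V := IsLocalization.lift (M := Q.primeCompl) (S := T) (g := φ.toRingHom) (fun y => by
      by_contra h
      exact y.2 ((mem_maximalIdeal _).2 h))
    have hψ : ∀ r : R, ψ (algebraMap R T r) = φ r := fun r => IsLocalization.lift_eq _ r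
    haveI hψloc : IsLocalHom ψ := ⟨fun t ht => by
      obtain ⟨r, y, rfl⟩ := IsLocalization.exists_mk'_eq Q.primeCompl t
      refine (IsLocalization.AtPrime.isUnit_mk'_iff T Q r y).2 fun hr => ?_
      have h1 : ψ (IsLocalization.mk' T r y) * φ (y : R) = φ r := by
        rw [← hψ, ← hψ, ← map_mul, IsLocalization.mk'_spec]
      have h2 : IsUnit (φ (y : R)) := by
        by_contra h; exact y.2 ((mem_maximalIdeal _).2 h)
      exact (mem_maximalIdeal _).1 hr (h1 ▸ ht.mul h2)⟩
    have hψ₀ : ∀ v : V₀, ψ (algebraMap V₀ T v) = algebraMap V₀ V v := fun v => by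
      rw [IsScalarTower.algebraMap_apply V₀ R T, hψ]
      exact (Algebra.TensorProduct.lift_tmul _ _ _ v 1).trans (by rw [map_one, mul_one]; rfl)
    haveI : IsLocalHom (algebraMap V₀ T) := ⟨fun v hv => by
      have := hv.map ψ
      rw [hψ₀] at this
      exact isUnit_of_map_unit (algebraMap V₀ V) v this⟩
    have hmT : maximalIdeal T = Ideal.span {algebraMap V₀ T π₀} := by
      rw [← Algebra.FormallyUnramified.map_maximalIdeal (R := V₀) (S := T), hπ₀.maximalIdeal_eq, Ideal.map_span,
        Set.image_singleton]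
    have hπV : (algebraMap V₀ V π₀ : V) ≠ 0 := fun h => hπ₀.ne_zero (Subtype.ext (ι.injective (by
      rw [show ι (π₀ : N) = ((algebraMap V₀ V π₀ : V) : F) from rfl, h]
      exact (map_zero ι).symm)))
    -- `x` is in the image
    obtain ⟨t, ht⟩ : ∃ t : T, ψ t = x := by
      let f : R →+* F := V.subtype.comp φ.toRingHom
      have hle : Subfield.closure (Set.range ι ∪ σ '' (s : Set S)) ≤ Subfield.closure (Set.range f) := by
        refine Subfield.closure_le.2 ?_
        have hv : ∀ v : V₀, ι (v : N) ∈ Subfield.closure (Set.range f) := fun v =>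
          Subfield.subset_closure ⟨v ⊗ₜ[A] 1, by
            show ((φ (v ⊗ₜ[A] 1) : V) : F) = _
            rw [Algebra.TensorProduct.lift_tmul, map_one, mul_one]
            rfl⟩
        rintro z (⟨y, rfl⟩ | ⟨e, he, rfl⟩)
        · rcases V₀.mem_or_inv_mem y with h | h
          · exact hv ⟨y, h⟩
          · simpa using inv_mem (hv ⟨y⁻¹, h⟩)
        · exact Subfield.subset_closure ⟨1 ⊗ₜ[A] ⟨e, hsE he⟩, by
            show ((φ (1 ⊗ₜ[A] ⟨e, hsE he⟩) : V) : F) = _
            rw [Algebra.TensorProduct.lift_tmul, map_one, one_mul]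
            rfl⟩
      obtain ⟨p, hp, q, hq, hpq⟩ := Subfield.mem_closure_iff.1 (hle hxs)
      rw [← RingHom.coe_range, Subring.closure_eq] at hp hq
      obtain ⟨r, rfl⟩ := hp
      obtain ⟨r', rfl⟩ := hq
      by_cases hx0 : (x : F) = 0
      · exact ⟨0, by rw [map_zero]; exact Subtype.ext hx0.symm⟩
      have hr' : φ r' ≠ 0 := fun h => hx0 (by rw [← hpq, show f r' = 0 from congrArg Subtype.val h, div_zero])
      have hx : x * φ r' = φ r := Subtype.ext (by
        show (x : F) * f r' = f r
        rw [← hpq, div_mul_cancel₀]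
        exact fun h => hr' (Subtype.ext h))
      rcases exists_unit_pow hmT (algebraMap R T r) with h0 | ⟨n, v, hv⟩
      · exact absurd (Subtype.ext_iff.1 ((mul_eq_zero.1 (hx.trans (by rw [← hψ, h0, map_zero]))).resolve_right hr')) hx0
      rcases exists_unit_pow hmT (algebraMap R T r') with h0 | ⟨m, w, hw⟩
      · exact absurd (by rw [← hψ, h0, map_zero]) hr'
      rw [← hψ, ← hψ, hv, hw, map_mul, map_mul, map_pow, map_pow, hψ₀] at hx
      have hwu : IsUnit (ψ w) := w.isUnit.map ψ
      by_cases hmn : m ≤ n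
      · refine ⟨↑w⁻¹ * v * algebraMap V₀ T π₀ ^ (n - m), mul_right_cancel₀ (mul_ne_zero hwu.ne_zero (pow_ne_zero m hπV)) ?_⟩
        rw [hx, map_mul, map_mul, map_pow, hψ₀]
        have h1 : ψ ↑w⁻¹ * ψ w = 1 := by rw [← map_mul, Units.inv_mul, map_one]
        have h2 : algebraMap V₀ V π₀ ^ (n - m) * algebraMap V₀ V π₀ ^ m = algebraMap V₀ V π₀ ^ n := by
          rw [← pow_add, Nat.sub_add_cancel hmn]
        linear_combination (ψ v * algebraMap V₀ V π₀ ^ (n - m) * algebraMap V₀ V π₀ ^ m) * h1 + ψ v * h2
      · exfalso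
        have h3 : x * ψ w * algebraMap V₀ V π₀ ^ (m - n) = ψ v := by
          refine mul_right_cancel₀ (pow_ne_zero n hπV) ?_
          rw [mul_assoc, ← pow_add, Nat.sub_add_cancel (by omega), mul_assoc, hx]
        have hu : IsUnit (algebraMap V₀ V π₀) := (isUnit_pow_iff (by omega : m - n ≠ 0)).1
          (IsUnit.mul_iff.1 (h3 ▸ v.isUnit.map ψ)).2
        exact hπ₀.not_isUnit (isUnit_of_map_unit (algebraMap V₀ V) _ hu)
    refine ⟨fun hx => ?_, ?_⟩
    · have hmt : t ∈ maximalIdeal T := (mem_maximalIdeal t).2 fun h => (mem_maximalIdeal x).1 hx (ht ▸ h.map ψ)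
      rw [hmT, Ideal.mem_span_singleton] at hmt
      obtain ⟨c, rfl⟩ := hmt
      exact ⟨ψ c, by rw [← ht, map_mul, hψ₀]⟩
    · haveI : Algebra.IsSeparable (ResidueField V₀) (ResidueField T) := inferInstance
      let j : ResidueField T →ₐ[ResidueField V₀] ResidueField V := { ResidueField.map ψ with
        commutes' := fun a => by
          obtain ⟨a, rfl⟩ := residue_surjective a
          show residue V (ψ (algebraMap V₀ T a)) = residue V (algebraMap V₀ V a)
          rw [hψ₀] }
      rw [← ht, show residue V (ψ t) = j (residue T t) from rfl]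
      exact IsSeparable.map j j.toRingHom.injective (Algebra.IsSeparable.isSeparable (ResidueField V₀) (residue T t))
  refine ⟨?_, ⟨fun y => ?_⟩⟩
  · refine le_antisymm (Ideal.map_le_iff_le_comap.2 fun x hx => map_nonunit (algebraMap V₀ V) x hx) fun x hx => ?_
    obtain ⟨c, rfl⟩ := (key x).1 hx
    exact Ideal.mul_mem_right _ _ (Ideal.mem_map_of_mem _ ((mem_maximalIdeal π₀).2 hπ₀.not_isUnit))
  · obtain ⟨x, rfl⟩ := residue_surjective y
    exact (key x).2

end Groth.Agent.SHDescentLib
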